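import Groth.Agent.Krr.H503.OpenResModel
import Groth.Agent.Krr.H498.PushCl
import Groth.Agent.Krr.H491.BottMul
import Groth.Agent.Krr.H495.Model
import Groth.Agent.Krr.H442.AmpleClass
import Groth.Agent.S3795
import Groth.Prelude.Def_Omega2

/-!
# The local statement: `[O_X] ∈ ℚ F^n K(Y)` for a regular closed immersion with free conormal module of rank `n`

* `dl_of_res`, `dl_rcl`: `δ` maps the class of a finite locally free resolution of `M` to `[M]`;
* `local_mem`: if the Adams–Riemann–Roch formula holds for `f : X ⟶ Y` (`j = 2`, `x = 1`) and the conormal module of `f`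
  is free of rank `n`, then `[f_* O_X]` lies in `ℚ F^n K(Y)`.
-/

set_option autoImplicit false
universe v w u
open CategoryTheory CategoryTheory.Limits AlgebraicGeometry
open AlgebraicGeometry.Scheme.Modules

namespace Groth.Agent.Krr.H486.Local

open KRR Groth.Agent.Krr.H503.OpenRes Groth.Agent.Krr.H503.OpenResModel
  Groth.Agent.Krr.H498.ResCat Groth.Agent.Krr.H498.LFRes Groth.Agent.Krr.H498.ResClass
  Groth.Agent.Krr.H498.PushCl

section Res

variable {Y : Scheme.{u}} (hX : ∀ M : Y.Modules, FlatMod.IsFinLocFree M → Coh.IsCoh M)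

/-- The image in `K₀(Coh Y)` of the class of a resolution. -/
theorem dl_of_res {M : Y.Modules} {n : ℕ} {c : SGA6.Kvb Y} (h : Res (KRR.vbP Y) n M c) :
    dl hX c = clc M := by
  induction h with
  | zero M hM => exact dl_cl hX hM
  | succ n S hS h₂ c h ih =>
    have h1 : Coh.IsCoh S.X₁ := (pdLE_and_isCoh_of_res h).2
    have h3 : Coh.IsCoh S.X₃ := (pdLE_and_isCoh_of_res (Res.succ n S hS h₂ c h)).2
    have key : clc S.X₂ = clc S.X₁ + clc S.X₃ :=
      Groth.Agent.Sga67.K0Basic.clSub_of_shortExact S hS h1 (hX _ h₂) h3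
    rw [map_sub, ih]
    have h4 : dl hX (KZero.clSub (KRR.vbP Y) S.X₂) = clc S.X₂ := dl_cl hX h₂
    rw [h4, key]
    abel

/-- `δ` maps the class of `M` to the class of `M`. -/
theorem dl_rcl [CompactSpace Y] [QuasiSeparatedSpace Y] (hY : KRR.HasEnoughLocFree Y) {M : Y.Modules}
    (hM : KRR.HasLFRes M) : dl hX (rcl hY M) = clc M := by
  obtain ⟨n, c, h⟩ := hasLFRes_iff.1 hM
  rw [rcl_of_res hY h]
  exact dl_of_res hX h

end Res

variable {X Y : Scheme.{u}}
  {KX : Type v} [CommRing KX] [LambdaRing.LambdaOps KX] {PX : LambdaRing.PosStructure KX}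
  {φX : SGA6.Kvb X →+ KX}
  {KY : Type w} [CommRing KY] [LambdaRing.LambdaOps KY] {PY : LambdaRing.PosStructure KY}
  {φY : SGA6.Kvb Y →+ KY}

theorem local_mem [IsNoetherian Y] (hYE : KRR.HasEnoughLocFree Y)
    (hY : ∀ M : Y.Modules, FlatMod.IsFinLocFree M → Coh.IsCoh M)
    (f : X ⟶ Y) (hf : Mor2.IsRegularClosedImmersion f) (n : ℕ)
    (e : Omega.conormal f ≅ FlatMod.freeMod X n)
    (hKX : IsModel X KX PX φX) (_ : IsModel Y KY PY φY) (hs : LambdaRing.HasSplitting KY PY)
    (h : KX →+ KY) (hh : IsPushCl f φX φY h)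
    (hRR : LambdaRing.adams PY 2 (h 1) =
      h (bott PX 2 (φX (cl X (Omega.conormal f))) * LambdaRing.adams PX 2 1)) :
    clc ((pushforward f).obj (Coh.structureModule X)) ∈ qf hY PY φY n := by
  have := hf.1
  have hg := goodPush_of_regular f hYE hf
  have hO : FlatMod.IsFinLocFree (Coh.structureModule X) := Groth.Agent.Sga67.TensorOps.isFinLocFree_structureModule
  have h1 : φX (cl X (Omega.conormal f)) = (n : KX) := by
    have h2 : cl X (Omega.conormal f) = cl X (FlatMod.freeMod X n) :=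
      Groth.Agent.Sga67.K0Basic.clSub_iso e
    rw [h2, Groth.Agent.Krr.H442.AmpleClass.model_freeMod hKX]
  have h2 : LambdaRing.adams PY 2 (h 1) = ((2 : ℕ) : KY) ^ n * h 1 := by
    rw [hRR, h1, Groth.Agent.Krr.H491.BottMul.bott_natCast, Groth.Agent.Books.Lambda1.adams_one, mul_one]
    have h3 : (((2 : ℕ) : KX) ^ n) = (2 ^ n : ℕ) • (1 : KX) := by
      rw [nsmul_eq_mul, mul_one]
      push_cast
      rfl
    rw [h3, map_nsmul, nsmul_eq_mul]
    push_cast
    rfl
  obtain ⟨N, hN, h3⟩ := Groth.Agent.S3795.result KY PY hs 2 le_rfl n (h 1)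
    ⟨1, le_rfl, by rw [h2, sub_self, mul_zero]; exact zero_mem _⟩
  have h4 : h 1 = φY (rcl hYE ((pushforward f).obj (Coh.structureModule X))) := by
    rw [← hKX.map_one]
    exact (isPushCl_iff f hYE φX φY hg h).1 hh _ hO
  refine ⟨N, N • rcl hYE ((pushforward f).obj (Coh.structureModule X)), hN, ?_, ?_⟩
  · rw [map_nsmul, ← h4, nsmul_eq_mul]
    exact h3
  · rw [map_nsmul, dl_rcl hY hYE (hg _ hO)]

end Groth.Agent.Krr.H486.Local
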