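import Groth.Agent.Krr.H486.Ind
import Groth.Agent.Krr.H486.Local
import Groth.Agent.Krr.H482.RegSpread
import Groth.Agent.Krr.H473.QProj
import Groth.Agent.CalgB.AmpleBase
import Groth.Agent.Ega1.GenPts
import Groth.Agent.CalgA.RegBasic
import Groth.Agent.PerfC.PushRestrict

/-!
# `[O_V] ∈ ℚ F^n K(X)`, `n` the codimension of `V`, from the Adams–Riemann–Roch formula and the splitting property

`result_of`: the statement of S3787 from (1) the splitting property of `K(Y)` (S3785) and (2) the Adams–Riemann–Roch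
formula (`j = 2`, `x = 1`) for regular closed immersions into connected Noetherian schemes with an ample module.
-/

set_option autoImplicit false
universe v u
open CategoryTheory CategoryTheory.Limits AlgebraicGeometry
open AlgebraicGeometry.Scheme.Modules

namespace Groth.Agent.Krr.H486.Cond

open KRR Groth.Agent.Krr.H503.OpenRes Groth.Agent.Krr.H503.OpenResModel

/-- The splitting property of `K(Y)` (statement of S3785). -/
def Split (Y : Scheme.{u}) : Prop :=
  ∀ (K : Type (u + 1)) [CommRing K] [LambdaRing.LambdaOps K] (P : LambdaRing.PosStructure K)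
    (φ : SGA6.Kvb Y →+ K), IsModel Y K P φ → LambdaRing.HasSplitting K P

/-- The Adams–Riemann–Roch formula for `f` (`j = 2`, `x = 1`). -/
def RR {V Y : Scheme.{u}} (f : V ⟶ Y) : Prop :=
  ∀ (KX : Type (u + 1)) [CommRing KX] [LambdaRing.LambdaOps KX] (PX : LambdaRing.PosStructure KX)
    (φX : SGA6.Kvb V →+ KX) (_ : IsModel V KX PX φX)
    (KY : Type (u + 1)) [CommRing KY] [LambdaRing.LambdaOps KY] (PY : LambdaRing.PosStructure KY)
    (φY : SGA6.Kvb Y →+ KY) (_ : IsModel Y KY PY φY) (h : KX →+ KY) (_ : IsPushCl f φX φY h),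
    LambdaRing.adams PY 2 (h 1) =
      h (bott PX 2 (φX (cl V (Omega.conormal f))) * LambdaRing.adams PX 2 1)

/-- A connected locally Noetherian scheme with regular local rings is integral. -/
theorem isIntegral_of_regular (X : Scheme.{u}) [IsLocallyNoetherian X] [ConnectedSpace X]
    (hreg : ∀ x : X, IsRegularLocalRing (X.presheaf.stalk x)) : IsIntegral X :=
  (Groth.Agent.Ega1.GenPts.isIntegral_iff X).2 ⟨inferInstance, fun x => by
    have := hreg x
    exact Groth.Agent.CalgA.RegBasic.isDomain (X.presheaf.stalk x)⟩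

/-- The restriction of `[ι_* O_V]` to an open `U`. -/
theorem resCoh_push {X V : Scheme.{u}} [IsNoetherian X] (ι : V ⟶ X) [IsClosedImmersion ι] (U : X.Opens) :
    resCoh U.ι (clc ((pushforward ι).obj (Coh.structureModule V))) =
      clc ((pushforward (ι ∣_ U)).obj (Coh.structureModule (ι ⁻¹ᵁ U).toScheme)) := by
  have h1 : Coh.IsCoh ((pushforward ι).obj (Coh.structureModule V)) :=
    Groth.Agent.Krr.H498.PushRes.isCoh_pushforward ι
      (Groth.Agent.PerfA.CohSerre.isCoh_of_isFinLocFree Groth.Agent.Sga67.TensorOps.isFinLocFree_structureModule)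
  rw [resCoh_cl _ h1]
  let e1 : (restrictFunctor (ι ⁻¹ᵁ U).ι).obj (Coh.structureModule V) ≅
      Coh.structureModule (ι ⁻¹ᵁ U).toScheme := restrictUnitIso (ι ⁻¹ᵁ U).ι
  exact clc_iso ((Groth.Agent.PerfC.PushRestrict.pushforwardRestrictIso ι U).app (Coh.structureModule V) ≪≫
    (pushforward (ι ∣_ U)).mapIso e1) (isCoh_restrict' U.ι _ h1)

theorem result_of
    (hSplit : ∀ (Y : Scheme.{u}) [IsNoetherian Y] [ConnectedSpace Y], Split Y)
    (hRR : ∀ (Y : Scheme.{u}) [IsNoetherian Y] [ConnectedSpace Y] (L : Y.Modules) (_ : CohB1.IsAmple L)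
      (V : Scheme.{u}) (f : V ⟶ Y) (_ : Mor2.IsRegularClosedImmersion f) [ConnectedSpace V] (d : ℕ)
      (_ : FlatMod.IsFinLocFreeOfRank d (Omega.conormal f)), RR f)
    (X : Scheme.{u}) [IsNoetherian X] [ConnectedSpace ↥X]
    (L : X.Modules) (hL : CohB1.IsAmple L) (hreg : ∀ x : X, IsRegularLocalRing (X.presheaf.stalk x))
    (K : Type v) [CommRing K] [LambdaRing.LambdaOps K] (P : LambdaRing.PosStructure K)
    (φ : SGA6.Kvb X →+ K) (hK : KRR.IsModel X K P φ)
    (hX : ∀ M : X.Modules, FlatMod.IsFinLocFree M → Coh.IsCoh M)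
    {V : Scheme.{u}} (ι : V ⟶ X) [IsClosedImmersion ι] [IsIntegral V] (n : ℕ)
    (hn : ringKrullDim (X.presheaf.stalk (ι (genericPoint V))) = n) :
    clc ((pushforward ι).obj (Coh.structureModule V)) ∈ qf hX P φ n := by
  refine Ind.mem_of_step (fun n => qf hX P φ n) (fun _ _ h => qf_antitone h) ?_ V ι n hn
  intro V ι _ _ n hn
  obtain ⟨U, hU1, hU2, hU3, hU4, ⟨e⟩⟩ :=
    Groth.Agent.Krr.H482.RegSpread.exists_open_free ι n (hreg _) hn
  have hXE : KRR.HasEnoughLocFree X := Groth.Agent.Krr.H473.QProj.hasEnoughLocFree_of_isAmple hL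
  have hUE : KRR.HasEnoughLocFree U.toScheme := hasEnoughLocFree_open U.ι hXE
  have hUN : IsNoetherian U.toScheme := isNoetherian_open U.ι
  have hXi : IsIntegral X := isIntegral_of_regular X hreg
  have hUne : Nonempty U.toScheme := ⟨⟨_, hU1⟩⟩
  have hUi : IsIntegral U.toScheme := inferInstance
  have hVne : Nonempty (ι ⁻¹ᵁ U).toScheme := ⟨⟨genericPoint V, hU1⟩⟩
  have hVi : IsIntegral (ι ⁻¹ᵁ U).toScheme := inferInstance
  have hUL : CohB1.IsAmple ((Scheme.Modules.pullback U.ι).obj L) :=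
    Groth.Agent.CalgB.AmpleBase.isAmple_pullback_of_isImmersion U.ι hL
  have hUc : ∀ M : U.toScheme.Modules, FlatMod.IsFinLocFree M → Coh.IsCoh M :=
    fun M hM => Groth.Agent.PerfA.CohSerre.isCoh_of_isFinLocFree hM
  let := Groth.Agent.Krr.H495.Model.lambdaOps U.toScheme
  let := Groth.Agent.Krr.H495.Model.lambdaOps (ι ⁻¹ᵁ U).toScheme
  have hMU := Groth.Agent.Krr.H495.Model.isModel U.toScheme
  have hMV := Groth.Agent.Krr.H495.Model.isModel (ι ⁻¹ᵁ U).toScheme
  obtain ⟨q, hq⟩ := Groth.Agent.Krr.H482.PullLambda.exists_isPull U.ι hK.bijective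
    (Groth.Agent.Sga67.KvbRing.toKR U.toScheme).toAddMonoidHom
  have := hU3.1
  obtain ⟨h, hh, -⟩ := Groth.Agent.Krr.H498.PushCl.existsUnique_isPushCl (ι ∣_ U) hUE
    (Groth.Agent.Sga67.KvbRing.toKR (ι ⁻¹ᵁ U).toScheme).toAddMonoidHom
    (Groth.Agent.Sga67.KvbRing.toKR U.toScheme).toAddMonoidHom
    (Groth.Agent.Krr.H498.PushCl.goodPush_of_regular _ hUE hU3) hMV.bijective
  have hloc := Local.local_mem hUE hUc (ι ∣_ U) hU3 n e hMV hMU (hSplit U.toScheme _ _ _ hMU) h hh
    (hRR U.toScheme _ hUL _ (ι ∣_ U) hU3 n hU4 _ _ _ hMV _ _ _ hMU h hh)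
  rw [← resCoh_push] at hloc
  refine ⟨(U : Set X)ᶜ, fun h => h hU1, fun x hx => hU2 x hx, fun hW => ?_⟩
  refine step hreg hXE hK hMU hq hX hUc n _ hloc fun W κ _ _ hr => hW W κ ?_
  rwa [Scheme.Opens.range_ι] at hr

end Groth.Agent.Krr.H486.Cond
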