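import Groth.Agent.Krr.H503.OpenRes
import Groth.Agent.CohqB.DevGeom
import Mathlib.AlgebraicGeometry.Properties

/-!
# Noetherian induction for classes of structure sheaves of integral closed subschemes

`mem_of_step`: let `C n` be a decreasing family of subgroups of `K₀(Coh X)`, `X` Noetherian. Assume that for every
integral closed subscheme `ι : V ⟶ X` of codimension `n` there is a set `S ⊆ V` not containing the generic point of `V`
such that `[O_V] ∈ C n` as soon as `[O_W] ∈ C n` for all integral closed `W ⊆ S`. Then `[O_V] ∈ C n` for all `V` of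
codimension `n`.
-/

set_option autoImplicit false
universe u

open CategoryTheory CategoryTheory.Limits AlgebraicGeometry Opposite TopologicalSpace
open AlgebraicGeometry.Scheme.Modules

namespace Groth.Agent.Krr.H486.Ind

open Groth.Agent.Krr.H503.OpenRes

variable {X : Scheme.{u}}

/-- The dimension of the local rings increases under specialization. -/
theorem ringKrullDim_stalk_le_of_specializes {x y : X} (h : x ⤳ y) :
    ringKrullDim (X.presheaf.stalk x) ≤ ringKrullDim (X.presheaf.stalk y) := by
  rw [ringKrullDim_stalk_eq_coheight, ringKrullDim_stalk_eq_coheight]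
  have h1 : y ≤ x := h
  exact_mod_cast Order.coheight_anti h1

/-- The codimension is a natural number on a locally Noetherian scheme. -/
theorem exists_ringKrullDim_eq [IsLocallyNoetherian X] (x : X) :
    ∃ n : ℕ, ringKrullDim (X.presheaf.stalk x) = n := by
  have h1 : ringKrullDim (X.presheaf.stalk x) ≠ ⊤ := ringKrullDim_lt_top.ne
  have h2 : ringKrullDim (X.presheaf.stalk x) ≠ ⊥ := ringKrullDim_ne_bot
  obtain ⟨m, hm⟩ := WithBot.ne_bot_iff_exists.1 h2
  rw [← hm] at h1 ⊢
  have h3 : m ≠ ⊤ := fun h => h1 (by rw [h]; rfl)
  obtain ⟨n, rfl⟩ := ENat.ne_top_iff_exists.1 h3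
  exact ⟨n, rfl⟩

theorem mem_of_step [IsNoetherian X] (C : ℕ → AddSubgroup (SGA6.Kcoh X)) (hanti : Antitone C)
    (step : ∀ (V : Scheme.{u}) (ι : V ⟶ X) [IsClosedImmersion ι] [IsIntegral V] (n : ℕ),
      ringKrullDim (X.presheaf.stalk (ι (genericPoint V))) = n →
      ∃ S : Set X, ι (genericPoint V) ∉ S ∧ S ⊆ Set.range ι ∧
        ((∀ (W : Scheme.{u}) (κ : W ⟶ X) [IsClosedImmersion κ] [IsIntegral W],
            Set.range κ ⊆ S → clc ((pushforward κ).obj (Coh.structureModule W)) ∈ C n) →
          clc ((pushforward ι).obj (Coh.structureModule V)) ∈ C n))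
    (V : Scheme.{u}) (ι : V ⟶ X) [IsClosedImmersion ι] [IsIntegral V] (n : ℕ)
    (hn : ringKrullDim (X.presheaf.stalk (ι (genericPoint V))) = n) :
    clc ((pushforward ι).obj (Coh.structureModule V)) ∈ C n := by
  have key : ∀ (T : Closeds X) (V : Scheme.{u}) (ι : V ⟶ X) (_ : IsClosedImmersion ι) (_ : IsIntegral V) (n : ℕ),
      ringKrullDim (X.presheaf.stalk (ι (genericPoint V))) = n → Set.range ι = T →
      clc ((pushforward ι).obj (Coh.structureModule V)) ∈ C n := by
    intro T
    induction T using WellFoundedLT.induction with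
    | ind T ih =>
      intro V ι _ _ n hn hT
      obtain ⟨S, hgen, hsub, hst⟩ := step V ι n hn
      refine hst fun W κ hκ hW hr => ?_
      obtain ⟨m, hm⟩ := exists_ringKrullDim_eq (κ (genericPoint W))
      have hspec : ι (genericPoint V) ⤳ κ (genericPoint W) := by
        rw [specializes_iff_mem_closure,
          Groth.Agent.CohqB.DevGeom.closure_image_genericPoint ι]
        exact hsub (hr ⟨_, rfl⟩)
      have hnm : n ≤ m := by
        have := ringKrullDim_stalk_le_of_specializes hspec
        rw [hn, hm] at this
        exact_mod_cast this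
      refine hanti hnm ?_
      have hlt : (⟨Set.range κ, κ.isClosedEmbedding.isClosed_range⟩ : Closeds X) < T := by
        refine lt_of_le_of_ne ?_ ?_
        · intro x hx
          have : x ∈ Set.range ι := hsub (hr hx)
          rw [hT] at this
          exact this
        · intro h
          have h3 : Set.range κ = Set.range ι := by
            rw [hT]
            exact congrArg (SetLike.coe : Closeds X → Set X) h
          have h4 : ι (genericPoint V) ∈ Set.range κ := by
            rw [h3]
            exact ⟨_, rfl⟩
          exact hgen (hr h4)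
      exact ih _ hlt W κ hκ hW m hm rfl
  exact key ⟨Set.range ι, ι.isClosedEmbedding.isClosed_range⟩ V ι inferInstance inferInstance n hn rfl

end Groth.Agent.Krr.H486.Ind
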